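import Groth.Agent.Lib.FpqcCov.Basic

/-!
# Small refinements of fpqc coverings
-/

set_option autoImplicit false

universe u

open CategoryTheory AlgebraicGeometry

namespace GrothLib.FpqcRep

/-- An fpqc covering is refined by one indexed by a small type. -/
theorem exists_small_refinement {X : Scheme.{u}} {R : Presieve X} (hR : R ∈ Scheme.fpqcPrecoverage X) :
    ∃ (ι : Type u) (U : ι → Scheme.{u}) (g : ∀ i, U i ⟶ X),
      Presieve.ofArrows U g ∈ Scheme.fpqcPrecoverage X ∧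
      ∀ i, ∃ (Z : Scheme.{u}) (f : Z ⟶ X) (k : U i ⟶ Z), R f ∧ k ≫ f = g i := by
  obtain ⟨ι₀, Z, f, rfl⟩ := R.exists_eq_ofArrows
  obtain ⟨hqc, hflat, -⟩ := FpqcCov.quasiCompactCover_and_flat f hR
  choose n idx V hV heq using fun W : X.affineOpens =>
    QuasiCompactCover.exists_isAffineOpen_of_isCompact (PreZeroHypercover.mk ι₀ Z f) (U := W.1) W.2.isCompact
  let ι : Type u := Σ W : X.affineOpens, ULift.{u} (Fin (n W))
  let U : ι → Scheme.{u} := fun p => (V p.1 p.2.down : Scheme.{u})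
  let g : ∀ p, U p ⟶ X := fun p => (V p.1 p.2.down).ι ≫ f (idx p.1 p.2.down)
  have hrange : ∀ (W : X.affineOpens) (j : Fin (n W)),
      g ⟨W, ⟨j⟩⟩ '' Set.univ = f (idx W j) '' (V W j : Set _) := by
    intro W j
    show ((V W j).ι ≫ f (idx W j)).base '' Set.univ = _
    rw [Scheme.Hom.comp_base]
    simp only [TopCat.coe_comp, Set.image_univ, Set.range_comp]
    exact congrArg (f (idx W j) '' ·) (Scheme.Opens.range_ι _)
  refine ⟨ι, U, g, ⟨?_, ?_⟩, fun p => ⟨_, f (idx p.1 p.2.down), (V p.1 p.2.down).ι, ⟨_⟩, rfl⟩⟩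
  · show _ ∈ Scheme.qcPrecoverage X
    refine (Scheme.presieve₀_mem_qcPrecoverage_iff (E := PreZeroHypercover.mk ι U g)).2 ⟨fun {O} hO => ?_⟩
    refine IsCompactOpenCovered.of_finite (κ := Fin (n ⟨O, hO⟩)) (fun j => (⟨⟨O, hO⟩, ⟨j⟩⟩ : ι)) (fun j => ⊤)
      (fun j => ?_) ?_
    · haveI : IsAffine (U ⟨⟨O, hO⟩, ⟨j⟩⟩) := hV _ _
      exact isCompact_univ
    · show ⋃ j, g ⟨⟨O, hO⟩, ⟨j⟩⟩ '' Set.univ = _
      simp only [hrange]
      exact heq ⟨O, hO⟩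
  · rw [Scheme.ofArrows_mem_precoverage_iff]
    refine ⟨fun x => ?_, fun p => ?_⟩
    · obtain ⟨_, ⟨O, hO, rfl⟩, hxO, -⟩ :=
        X.isBasis_affineOpens.exists_subset_of_mem_open (Set.mem_univ x) isOpen_univ
      have : x ∈ ⋃ j, f (idx ⟨O, hO⟩ j) '' (V ⟨O, hO⟩ j : Set _) := by
        rw [show (⋃ j, f (idx ⟨O, hO⟩ j) '' (V ⟨O, hO⟩ j : Set _)) = (O : Set X) from heq ⟨O, hO⟩]; exact hxO
      obtain ⟨j, hj⟩ := Set.mem_iUnion.1 this
      rw [← hrange] at hj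
      obtain ⟨y, -, hy⟩ := hj
      exact ⟨⟨⟨O, hO⟩, ⟨j⟩⟩, y, hy⟩
    · haveI : Flat (f (idx p.1 p.2.down)) := hflat _
      show Flat ((V p.1 p.2.down).ι ≫ f (idx p.1 p.2.down))
      infer_instance

end GrothLib.FpqcRep
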