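import Groth.Agent.Lib.SchEffective.Affine
import Groth.Agent.Lib.SchEffective.Sheaf
import Groth.Agent.Lib.RepLocal.Basic
import Groth.Agent.Lib.FpqcCov.Basic
import Mathlib.AlgebraicGeometry.Morphisms.Affine

/-!
# A presheaf which is fpqc locally on the base represented by affine schemes is representable
-/

set_option autoImplicit false
set_option backward.isDefEq.respectTransparency false
set_option backward.isDefEq.respectTransparency.types false

universe v u

open CategoryTheory CategoryTheory.Limits AlgebraicGeometry Desc GrothLib.RepLocal GrothLib.SchEffective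

namespace GrothLib.FpqcRep

variable {H : Scheme.{u}} {ι : Type u} {U : ι → Scheme.{u}}

/-- The restriction of an `H`-scheme to a member of the family. -/
noncomputable def pb (u : ∀ i, U i ⟶ H) (T : Over H) (i : ι) : Over H :=
  Over.mk (pullback.fst (u i) T.hom ≫ u i)

/-- The projection from a restriction. -/
noncomputable def pι (u : ∀ i, U i ⟶ H) (T : Over H) (i : ι) : pb u T i ⟶ T :=
  Over.homMk (pullback.snd (u i) T.hom) pullback.condition.symm

/-- The gluing axiom for the restrictions to a family. -/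
def IsGlued (u : ∀ i, U i ⟶ H) (P : Psh.{v} H) : Prop :=
  ∀ (T : Over H) (a : ∀ i, P.obj (pb u T i)),
    (∀ (i j : ι) (R : Over H) (f : R ⟶ pb u T i) (g : R ⟶ pb u T j),
      f ≫ pι u T i = g ≫ pι u T j → P.map f (a i) = P.map g (a j)) →
    ∃! y : P.obj T, ∀ i, P.map (pι u T i) y = a i

/-- Representing data over the members of a family. -/
structure LocalRep (u : ∀ i, U i ⟶ H) (P : Psh.{v} H) where
  /-- the local representing schemes -/
  W : ι → Over H
  /-- their structure maps to the members -/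
  q : ∀ i, (W i).left ⟶ U i
  hq : ∀ i, q i ≫ u i = (W i).hom
  /-- the universal elements -/
  n : ∀ i, P.obj (W i)
  existsUnique : ∀ i (T : Over H) (z : T.left ⟶ U i), z ≫ u i = T.hom → ∀ x : P.obj T,
    ∃! a : T ⟶ W i, a.left ≫ q i = z ∧ P.map a (n i) = x

variable {u : ∀ i, U i ⟶ H} {P : Psh.{v} H} (L : LocalRep u P)

/-- The classifying map. -/
noncomputable def LocalRep.cls (i : ι) (T : Over H) (z : T.left ⟶ U i) (hz : z ≫ u i = T.hom) (x : P.obj T) :
    T ⟶ L.W i :=
  (L.existsUnique i T z hz x).choose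

theorem LocalRep.cls_q (i : ι) (T : Over H) (z : T.left ⟶ U i) (hz : z ≫ u i = T.hom) (x : P.obj T) :
    (L.cls i T z hz x).left ≫ L.q i = z :=
  (L.existsUnique i T z hz x).choose_spec.1.1

theorem LocalRep.cls_map (i : ι) (T : Over H) (z : T.left ⟶ U i) (hz : z ≫ u i = T.hom) (x : P.obj T) :
    P.map (L.cls i T z hz x) (L.n i) = x :=
  (L.existsUnique i T z hz x).choose_spec.1.2

theorem LocalRep.cls_unique {i : ι} {T : Over H} {z : T.left ⟶ U i} (hz : z ≫ u i = T.hom) {x : P.obj T}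
    {a : T ⟶ L.W i} (h : a.left ≫ L.q i = z) (h' : P.map a (L.n i) = x) : a = L.cls i T z hz x :=
  (L.existsUnique i T z hz x).choose_spec.2 a ⟨h, h'⟩

theorem LocalRep.cls_natural {i : ι} {T T' : Over H} (k : T' ⟶ T) {z : T.left ⟶ U i} (hz : z ≫ u i = T.hom)
    {x : P.obj T} {z' : T'.left ⟶ U i} (hz' : z' ≫ u i = T'.hom) {x' : P.obj T'} (hk : k.left ≫ z = z')
    (hx : P.map k x = x') : (L.cls i T' z' hz' x').left = k.left ≫ (L.cls i T z hz x).left := by
  refine (congrArg CommaMorphism.left (L.cls_unique hz' (a := k ≫ L.cls i T z hz x) ?_ ?_)).symm.trans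
    rfl
  · rw [Over.comp_left, Category.assoc, L.cls_q, hk]
  · rw [P.map_comp, L.cls_map, hx]

/-- A point of a local representing scheme, as a morphism over the base. -/
noncomputable def LocalRep.pt {i : ι} {T : Scheme.{u}} (x : T ⟶ U i) (v : Lifts (Over.mk (L.q i)) x) :
    Over.mk (x ≫ u i) ⟶ L.W i :=
  Over.homMk v.1 (by
    show v.1 ≫ (L.W i).hom = x ≫ u i
    rw [← L.hq, ← Category.assoc]
    exact congrArg (· ≫ u i) v.2)

theorem LocalRep.pt_left {i : ι} {T : Scheme.{u}} (x : T ⟶ U i) (v : Lifts (Over.mk (L.q i)) x) :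
    (L.pt x v).left = v.1 := rfl

/-- Transport of a point. -/
noncomputable def LocalRep.tr ⦃T : Scheme.{u}⦄ ⦃i j : ι⦄ (x₀ : T ⟶ U i) (x₁ : T ⟶ U j)
    (h : x₀ ≫ u i = x₁ ≫ u j) (v : Lifts (Over.mk (L.q i)) x₀) : Lifts (Over.mk (L.q j)) x₁ :=
  ⟨(L.cls j (Over.mk (x₀ ≫ u i)) x₁ h.symm (P.map (L.pt x₀ v) (L.n i))).left, L.cls_q _ _ _ _ _⟩

theorem LocalRep.tr_natural ⦃T T' : Scheme.{u}⦄ (g : T' ⟶ T) ⦃i j : ι⦄ (x₀ : T ⟶ U i) (x₁ : T ⟶ U j)
    (h : x₀ ≫ u i = x₁ ≫ u j) (x₀' : T' ⟶ U i) (x₁' : T' ⟶ U j) (e₀ : g ≫ x₀ = x₀') (e₁ : g ≫ x₁ = x₁')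
    (h' : x₀' ≫ u i = x₁' ≫ u j) (v : Lifts (Over.mk (L.q i)) x₀) (v' : Lifts (Over.mk (L.q i)) x₀')
    (hv : v'.1 = g ≫ v.1) : (L.tr x₀' x₁' h' v').1 = g ≫ (L.tr x₀ x₁ h v).1 := by
  let k : Over.mk (x₀' ≫ u i) ⟶ Over.mk (x₀ ≫ u i) :=
    Over.homMk g (by show g ≫ x₀ ≫ u i = x₀' ≫ u i; rw [← e₀, Category.assoc])
  refine L.cls_natural k h.symm h'.symm e₁ ?_
  rw [← P.map_comp]
  congr 1
  exact Over.OverMorphism.ext hv.symm

theorem LocalRep.tr_self ⦃T : Scheme.{u}⦄ ⦃i : ι⦄ (x : T ⟶ U i) (h : x ≫ u i = x ≫ u i)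
    (v : Lifts (Over.mk (L.q i)) x) : L.tr x x h v = v :=
  Subtype.ext (congrArg CommaMorphism.left (L.cls_unique (a := L.pt x v) h.symm v.2 rfl)).symm

theorem LocalRep.tr_comp ⦃T : Scheme.{u}⦄ ⦃i j k : ι⦄ (x₀ : T ⟶ U i) (x₁ : T ⟶ U j) (x₂ : T ⟶ U k)
    (h : x₀ ≫ u i = x₁ ≫ u j) (h' : x₁ ≫ u j = x₂ ≫ u k) (h'' : x₀ ≫ u i = x₂ ≫ u k)
    (v : Lifts (Over.mk (L.q i)) x₀) : L.tr x₁ x₂ h' (L.tr x₀ x₁ h v) = L.tr x₀ x₂ h'' v := by
  apply Subtype.ext
  let e : Over.mk (x₁ ≫ u j) ⟶ Over.mk (x₀ ≫ u i) := Over.homMk (𝟙 T) ((Category.id_comp _).trans h)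
  refine (L.cls_natural e h''.symm h'.symm (Category.id_comp x₂) ?_).trans (Category.id_comp _)
  have hp : L.pt x₁ (L.tr x₀ x₁ h v) = e ≫ L.cls j _ x₁ h.symm (P.map (L.pt x₀ v) (L.n i)) :=
    Over.OverMorphism.ext (Category.id_comp _).symm
  rw [hp, P.map_comp, L.cls_map]

/-- The descent datum of local representing schemes. -/
@[reducible] noncomputable def LocalRep.dd : SchDDFam u where
  obj i := Over.mk (L.q i)
  φ T i j x₀ x₁ h :=
    { toFun := L.tr x₀ x₁ h
      invFun := L.tr x₁ x₀ h.symm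
      left_inv := fun v => (L.tr_comp x₀ x₁ x₀ h h.symm rfl v).trans (L.tr_self x₀ rfl v)
      right_inv := fun v => (L.tr_comp x₁ x₀ x₁ h.symm h rfl v).trans (L.tr_self x₁ rfl v) }
  φ_natural T T' g i j x₀ x₁ h x₀' x₁' e₀ e₁ h' v v' hv := L.tr_natural g x₀ x₁ h x₀' x₁' e₀ e₁ h' v v' hv
  φ_self T i x v := L.tr_self x rfl v
  φ_comp T i j k x₀ x₁ x₂ h h' v := L.tr_comp x₀ x₁ x₂ h h' (h.trans h') v

/-- The element of the datum given by an element of the presheaf. -/
noncomputable def LocalRep.toElt {T : Over H} (x : P.obj T) : Elt L.dd T.hom :=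
  Elt.ofFun
    (fun T' i y s h =>
      ⟨(L.cls i (Over.mk (y ≫ u i)) y rfl (P.map (Over.homMk s h.symm) x)).left, L.cls_q _ _ _ _ _⟩)
    (fun T' T'' k i y s h y' s' ey es h' => by
      refine L.cls_natural (Over.homMk k (by
        show k ≫ y ≫ u i = y' ≫ u i
        rw [← ey, Category.assoc]) : Over.mk (y' ≫ u i) ⟶ Over.mk (y ≫ u i)) rfl rfl ey ?_
      rw [← P.map_comp]
      congr 1
      exact Over.OverMorphism.ext es)
    (fun T' i j y y' s hy hy' => by
      let e : Over.mk (y ≫ u i) ⟶ Over.mk (y' ≫ u j) :=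
        Over.homMk (𝟙 T') ((Category.id_comp _).trans (hy'.trans hy.symm))
      refine (L.cls_natural e rfl _ (Category.id_comp y') ?_).trans (Category.id_comp _)
      have hp : L.pt y ⟨(L.cls i (Over.mk (y ≫ u i)) y rfl (P.map (Over.homMk s hy.symm) x)).left,
          L.cls_q _ _ _ _ _⟩ = L.cls i (Over.mk (y ≫ u i)) y rfl (P.map (Over.homMk s hy.symm) x) :=
        Over.OverMorphism.ext rfl
      rw [hp, L.cls_map, ← P.map_comp]
      congr 1)

theorem LocalRep.toElt_app {T : Over H} (x : P.obj T) {T' : Scheme.{u}} {i : ι} (y : T' ⟶ U i) (s : T' ⟶ T.left)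
    (h : y ≫ u i = s ≫ T.hom) : ((L.toElt x).app y s h).1 =
      (L.cls i (Over.mk (y ≫ u i)) y rfl (P.map (Over.homMk s h.symm) x)).left :=
  Elt.ofFun_app _ _ _ _ _ _

theorem LocalRep.toElt_map {T T' : Over H} (g : T' ⟶ T) (x : P.obj T) :
    L.toElt (P.map g x) = (L.toElt x).res g.left (Over.w g) := by
  refine Elt.ext' fun T'' i y s h => ?_
  have h' : y ≫ u i = (s ≫ g.left) ≫ T.hom := by rw [Category.assoc, Over.w g, h]
  rw [Elt.res_app _ _ _ y s h h', L.toElt_app, L.toElt_app, ← P.map_comp]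
  rfl

variable (hu : Presieve.ofArrows U u ∈ Scheme.fpqcPrecoverage H) (hP : IsGlued u P)

include hP in
theorem LocalRep.toElt_injective {T : Over H} {x y : P.obj T} (h : L.toElt x = L.toElt y) : x = y := by
  refine (hP T (fun i => P.map (pι u T i) x) fun i j R f g e => by rw [← P.map_comp, ← P.map_comp, e]).unique
    (fun i => rfl) fun i => ?_
  have e := congrArg Subtype.val (congrArg (fun a : Elt L.dd T.hom =>
    a.app (pullback.fst (u i) T.hom) (pullback.snd (u i) T.hom) pullback.condition) h)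
  rw [L.toElt_app, L.toElt_app] at e
  have := congrArg (fun k => P.map k (L.n i)) (Over.OverMorphism.ext e)
  simp only [L.cls_map] at this
  exact this.symm

include hP in
theorem LocalRep.toElt_surjective {T : Over H} (a : Elt L.dd T.hom) : ∃ x : P.obj T, L.toElt x = a := by
  let c : ∀ i, pb u T i ⟶ L.W i := fun i => L.pt _ ⟨a.a i, a.hom i⟩
  obtain ⟨x, hx, -⟩ := hP T (fun i => P.map (c i) (L.n i)) fun i j R f g e => by
    have e' : f.left ≫ pullback.snd (u i) T.hom = g.left ≫ pullback.snd (u j) T.hom :=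
      congrArg CommaMorphism.left e
    let x₀ := f.left ≫ pullback.fst (u i) T.hom
    let x₁ := g.left ≫ pullback.fst (u j) T.hom
    have hx₀ : x₀ ≫ u i = (f.left ≫ pullback.snd (u i) T.hom) ≫ T.hom := by
      rw [Category.assoc, pullback.condition, Category.assoc]
    have hx₁ : x₁ ≫ u j = (f.left ≫ pullback.snd (u i) T.hom) ≫ T.hom := by
      rw [e', Category.assoc, pullback.condition, Category.assoc]
    have key := congrArg Subtype.val (a.φ_app x₀ x₁ _ hx₀ hx₁ (hx₀.trans hx₁.symm))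
    let k : R ⟶ Over.mk (x₀ ≫ u i) :=
      Over.homMk (𝟙 _) ((Category.id_comp _).trans ((Category.assoc _ _ _).trans (Over.w f)))
    have h1 : f ≫ c i = k ≫ L.pt x₀ (a.app x₀ _ hx₀) := by
      apply Over.OverMorphism.ext
      show f.left ≫ a.a i = 𝟙 _ ≫ pullback.lift _ _ _ ≫ a.a i
      refine Eq.trans ?_ (Category.id_comp _).symm
      exact congrArg (· ≫ a.a i) (pullback.hom_ext (pullback.lift_fst _ _ _).symm (pullback.lift_snd _ _ _).symm)
    have h2 : g ≫ c j = k ≫ L.cls j _ x₁ (hx₁.trans hx₀.symm) (P.map (L.pt x₀ (a.app x₀ _ hx₀)) (L.n i)) := by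
      apply Over.OverMorphism.ext
      show g.left ≫ a.a j = 𝟙 _ ≫ _
      rw [Category.id_comp]
      refine Eq.trans ?_ key.symm
      show _ = pullback.lift _ _ _ ≫ a.a j
      exact congrArg (· ≫ a.a j)
        (pullback.hom_ext (pullback.lift_fst _ _ _).symm ((pullback.lift_snd _ _ _).trans e').symm)
    rw [← P.map_comp, ← P.map_comp, h1, h2, P.map_comp, P.map_comp, L.cls_map]
  refine ⟨x, Elt.ext' fun T' i y s h => ?_⟩
  rw [L.toElt_app]
  let l : Over.mk (y ≫ u i) ⟶ pb u T i := Over.homMk (pullback.lift y s h) (by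
    show pullback.lift y s h ≫ pullback.fst _ _ ≫ u i = y ≫ u i
    rw [pullback.lift_fst_assoc])
  have hs : Over.homMk s h.symm = l ≫ pι u T i := Over.OverMorphism.ext (pullback.lift_snd _ _ _).symm
  refine (congrArg CommaMorphism.left (L.cls_unique (a := l ≫ c i) rfl ?_ ?_)).symm
  · exact (a.app y s h).2
  · rw [P.map_comp, ← hx i, ← P.map_comp, ← hs]

include hu hP in
/-- Representability. -/
theorem LocalRep.exists_representing (hW : ∀ i, IsAffineHom (L.q i)) :
    ∃ (M : Over H) (m : P.obj M), ∀ (T : Over H) (x : P.obj T), ∃! a : T ⟶ M, P.map a m = x := by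
  obtain ⟨M, μ, m, hm⟩ := isRep_of_isEffective (DDFull.ofArrows_mem hu) (isEffective_of_isAffineHom u hu L.dd hW)
  obtain ⟨mP, hmP⟩ := L.toElt_surjective hP (T := Over.mk μ) m
  refine ⟨Over.mk μ, mP, fun T x => ?_⟩
  have key : ∀ a : T ⟶ Over.mk μ, P.map a mP = x ↔ IsRes m a.left (L.toElt x) := by
    intro a
    constructor
    · intro e
      rw [← e, L.toElt_map, hmP]
      exact m.isRes_res a.left (Over.w a)
    · intro e
      apply L.toElt_injective hP
      rw [L.toElt_map, hmP]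
      exact e.eq.symm
  obtain ⟨g, hg, huniq⟩ := hm T.hom (L.toElt x)
  exact ⟨Over.homMk g hg.1, (key _).2 hg, fun a ha => Over.OverMorphism.ext (huniq _ ((key a).1 ha))⟩

/-- A representing scheme restricts to the local ones. -/
theorem LocalRep.exists_isPullback {M : Over H} {m : P.obj M}
    (hm : ∀ (T : Over H) (x : P.obj T), ∃! a : T ⟶ M, P.map a m = x) (i : ι) :
    ∃ e : L.W i ⟶ M, P.map e m = L.n i ∧ IsPullback e.left (L.q i) M.hom (u i) := by
  obtain ⟨e, he, -⟩ := hm (L.W i) (L.n i)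
  have hw : e.left ≫ M.hom = L.q i ≫ u i := (Over.w e).trans (L.hq i).symm
  refine ⟨e, he, IsPullback.of_isLimit' ⟨hw⟩ (PullbackCone.isLimitAux _
    (fun c => (L.cls i (Over.mk (c.snd ≫ u i)) c.snd rfl (P.map (Over.homMk c.fst c.condition) m)).left)
    (fun c => ?_) (fun c => L.cls_q _ _ _ _ _) fun c k hk => ?_)⟩
  · let T : Over H := Over.mk (c.snd ≫ u i)
    let f : T ⟶ M := Over.homMk c.fst c.condition
    have h : L.cls i T c.snd rfl (P.map f m) ≫ e = f := by
      refine (hm T (P.map f m)).unique ?_ rfl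
      rw [P.map_comp, he, L.cls_map]
    exact congrArg CommaMorphism.left h
  · have key : ∀ k' : c.pt ⟶ (L.W i).left, k' ≫ e.left = c.fst → k' ≫ L.q i = c.snd →
        k' = (L.cls i (Over.mk (c.snd ≫ u i)) c.snd rfl (P.map (Over.homMk c.fst c.condition) m)).left := by
      intro k' h1 h2
      let a : Over.mk (c.snd ≫ u i) ⟶ L.W i := Over.homMk k' (by
        show k' ≫ (L.W i).hom = c.snd ≫ u i
        rw [← L.hq, ← Category.assoc, h2])
      refine congrArg CommaMorphism.left (L.cls_unique (a := a) rfl h2 ?_)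
      rw [← he, ← P.map_comp]
      congr 1
      exact Over.OverMorphism.ext h1
    exact key k (hk WalkingCospan.left) (hk WalkingCospan.right)

include hu in
/-- Properties of the representing scheme are local on the family. -/
theorem LocalRep.property (Q : MorphismProperty Scheme.{u}) [IsZariskiLocalAtTarget Q]
    [Q.DescendsAlong (@Surjective ⊓ @Flat ⊓ @QuasiCompact : MorphismProperty Scheme.{u})]
    {M : Over H} {m : P.obj M} (hm : ∀ (T : Over H) (x : P.obj T), ∃! a : T ⟶ M, P.map a m = x)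
    (hQ : ∀ i, Q (L.q i)) : Q M.hom := by
  obtain ⟨hqc, hflat, -⟩ := FpqcCov.quasiCompactCover_and_flat u hu
  refine FpqcCov.of_fpqc Q ‹_› M.hom (PreZeroHypercover.mk ι U u) hflat fun i => ?_
  obtain ⟨e, -, sq⟩ := L.exists_isPullback hm i
  change Q (pullback.snd M.hom (u i))
  rw [← sq.isoPullback_inv_snd]
  exact (MorphismProperty.cancel_left_of_respectsIso Q _ _).2 (hQ i)

end GrothLib.FpqcRep
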