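import Groth.Agent.Lib.FpqcRep.Basic

/-!
# Gluing morphisms on the restrictions to an fpqc family
-/

set_option autoImplicit false

universe u

open CategoryTheory CategoryTheory.Limits MonoidalCategory CartesianMonoidalCategory AlgebraicGeometry Desc
open GrothLib.RepLocal GrothLib.SchEffective

namespace GrothLib.FpqcRep

variable {H : Scheme.{u}} {ι : Type u} {U : ι → Scheme.{u}} {u : ∀ i, U i ⟶ H}

/-- A point of `T ⊗ A` over a member of the family lifts to the restriction. -/
theorem exists_pt (T A : Over H) {T' : Scheme.{u}} {i : ι} (x : T' ⟶ U i) (s : T' ⟶ (T ⊗ A).left)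
    (h : x ≫ u i = s ≫ (T ⊗ A).hom) :
    ∃ l : Over.mk (s ≫ (T ⊗ A).hom) ⟶ pb u T i ⊗ A, l ≫ (pι u T i ▷ A) = Over.homMk s rfl := by
  let R : Over H := Over.mk (s ≫ (T ⊗ A).hom)
  let t : R ⟶ T ⊗ A := Over.homMk s rfl
  let k : R ⟶ pb u T i := Over.homMk (pullback.lift x (t ≫ fst T A).left (h.trans (Over.w (t ≫ fst T A)).symm))
    (by
      show pullback.lift x _ _ ≫ pullback.fst _ _ ≫ u i = _
      rw [pullback.lift_fst_assoc]
      exact h)
  have hk : k ≫ pι u T i = t ≫ fst T A := Over.OverMorphism.ext (pullback.lift_snd _ _ _)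
  refine ⟨lift k (t ≫ snd T A), ?_⟩
  rw [lift_whiskerRight, hk, ← comp_lift, lift_fst_snd, Category.comp_id]

theorem isCover (hu : Presieve.ofArrows U u ∈ Scheme.fpqcPrecoverage H) (Z : Over H) :
    (Sieve.ofArrows U u).pullback Z.hom ∈ Scheme.fpqcTopology Z.left :=
  Scheme.fpqcTopology.pullback_stable Z.hom (DDFull.ofArrows_mem hu)

/-- Morphisms out of `T ⊗ A` are determined on the restrictions. -/
theorem hom_ext_pb (hu : Presieve.ofArrows U u ∈ Scheme.fpqcPrecoverage H) (T A : Over H) {B : Over H}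
    {f g : T ⊗ A ⟶ B} (h : ∀ i, (pι u T i ▷ A) ≫ f = (pι u T i ▷ A) ≫ g) : f = g := by
  apply Over.OverMorphism.ext
  refine DDFull.hom_ext (isCover hu (T ⊗ A)) fun T' s hs => ?_
  obtain ⟨i, x, hx⟩ := (Sieve.mem_ofArrows_iff _ _ _).1 hs
  obtain ⟨l, hl⟩ := exists_pt T A x s hx.symm
  exact congrArg CommaMorphism.left
    (((congrArg (· ≫ f) hl).symm.trans ((Category.assoc _ _ _).trans (congrArg (l ≫ ·) (h i)))).trans
      ((Category.assoc _ _ _).symm.trans (congrArg (· ≫ g) hl)))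

/-- Morphisms out of `T ⊗ A` glue. -/
theorem existsUnique_hom (hu : Presieve.ofArrows U u ∈ Scheme.fpqcPrecoverage H) (T A : Over H) {B : Over H}
    (f : ∀ i, pb u T i ⊗ A ⟶ B)
    (hf : ∀ (i j : ι) (R : Over H) (a : R ⟶ pb u T i) (b : R ⟶ pb u T j),
      a ≫ pι u T i = b ≫ pι u T j → (a ▷ A) ≫ f i = (b ▷ A) ≫ f j) :
    ∃! g : T ⊗ A ⟶ B, ∀ i, (pι u T i ▷ A) ≫ g = f i := by
  let rel : ∀ ⦃T' : Scheme.{u}⦄, (T' ⟶ (T ⊗ A).left) → (T' ⟶ B.left) → Prop := fun T' s w =>
    ∃ (i : ι) (R : Over H) (l : R ⟶ pb u T i ⊗ A) (e : R.left = T'),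
      (l ≫ (pι u T i ▷ A)).left = eqToHom e ≫ s ∧ (l ≫ f i).left = eqToHom e ≫ w
  obtain ⟨c, hc⟩ := DDFull.exists_glue (isCover hu (T ⊗ A)) rel
    (fun T' s hs => by
      obtain ⟨i, x, hx⟩ := (Sieve.mem_ofArrows_iff _ _ _).1 hs
      obtain ⟨l, hl⟩ := exists_pt T A x s hx.symm
      exact ⟨(l ≫ f i).left, i, _, l, rfl, (congrArg CommaMorphism.left hl).trans (Category.id_comp _).symm,
        (Category.id_comp _).symm⟩)
    (fun T' s w ⟨i, R, l, e, h1, _⟩ => by
      subst e
      rw [eqToHom_refl, Category.id_comp] at h1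
      refine (Sieve.mem_ofArrows_iff _ _ _).2 ⟨i, (l ≫ fst _ A).left ≫ pullback.fst (u i) T.hom, ?_⟩
      show s ≫ (T ⊗ A).hom = _
      rw [← h1]
      refine (Over.w _).trans ?_
      rw [Category.assoc]
      exact (Over.w (l ≫ fst _ A)).symm)
    (fun T' s w w' ⟨i, R, l, e, h1, h2⟩ ⟨j, R', l', e', h1', h2'⟩ => by
      subst e
      rw [eqToHom_refl, Category.id_comp] at h1 h2
      have hR : eqToHom e'.symm ≫ R'.hom = R.hom := by
        have hs : R.hom = s ≫ (T ⊗ A).hom := by rw [← h1]; exact (Over.w _).symm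
        have hs' : R'.hom = eqToHom e' ≫ s ≫ (T ⊗ A).hom := by
          rw [← Category.assoc, ← h1']; exact (Over.w _).symm
        rw [hs', hs, ← Category.assoc, eqToHom_trans, eqToHom_refl, Category.id_comp]
      let ε : R ⟶ R' := Over.homMk (eqToHom e'.symm) hR
      have hl : l ≫ (pι u T i ▷ A) = (ε ≫ l') ≫ (pι u T j ▷ A) := by
        apply Over.OverMorphism.ext
        rw [Category.assoc]
        refine h1.trans (Eq.trans ?_ (congrArg (ε.left ≫ ·) h1').symm)
        show s = eqToHom e'.symm ≫ eqToHom e' ≫ s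
        rw [← Category.assoc, eqToHom_trans, eqToHom_refl, Category.id_comp]
      have hsplit : ∀ (i : ι) (m : R ⟶ pb u T i ⊗ A),
          m = lift (𝟙 R) (m ≫ snd _ A) ≫ ((m ≫ fst _ A) ▷ A) := fun i m => by
        rw [lift_whiskerRight, Category.id_comp, ← comp_lift, lift_fst_snd, Category.comp_id]
      have h1e := congrArg (· ≫ fst T A) hl
      simp only [Category.assoc, whiskerRight_fst] at h1e
      have h2e := congrArg (· ≫ snd T A) hl
      simp only [Category.assoc, whiskerRight_snd] at h2e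
      have key : l ≫ f i = (ε ≫ l') ≫ f j := by
        rw [hsplit i l, hsplit j (ε ≫ l'), Category.assoc, Category.assoc, Category.assoc ε l', h2e,
          Category.assoc ε l', hf i j R (l ≫ fst _ A) (ε ≫ l' ≫ fst _ A) (by simp only [Category.assoc]; exact h1e)]
      have k2 := congrArg CommaMorphism.left key
      rw [Category.assoc] at k2
      change (l ≫ f i).left = eqToHom e'.symm ≫ (l' ≫ f j).left at k2
      rw [h2, h2', ← Category.assoc, eqToHom_trans, eqToHom_refl, Category.id_comp] at k2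
      exact k2)
    (fun T₁ T₂ k s w ⟨i, R, l, e, h1, h2⟩ => by
      subst e
      rw [eqToHom_refl, Category.id_comp] at h1 h2
      let κ : Over.mk (k ≫ R.hom) ⟶ R := Over.homMk k rfl
      refine ⟨i, _, κ ≫ l, rfl, ?_, ?_⟩
      · rw [Category.assoc, Over.comp_left, h1]; exact (Category.id_comp _).symm
      · rw [Category.assoc, Over.comp_left, h2]; exact (Category.id_comp _).symm)
  have hloc : ∀ i, (pι u T i ▷ A).left ≫ c = (f i).left := fun i =>
    hc _ _ ⟨i, _, 𝟙 _, rfl, by rw [Category.id_comp]; exact (Category.id_comp _).symm,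
      by rw [Category.id_comp]; exact (Category.id_comp _).symm⟩
  have hcw : c ≫ B.hom = (T ⊗ A).hom := by
    refine DDFull.hom_ext (isCover hu (T ⊗ A)) fun T' s hs => ?_
    obtain ⟨i, x, hx⟩ := (Sieve.mem_ofArrows_iff _ _ _).1 hs
    obtain ⟨l, hl⟩ := exists_pt T A x s hx.symm
    have hl' : l.left ≫ (pι u T i ▷ A).left = s := congrArg CommaMorphism.left hl
    rw [← hl', Category.assoc, Category.assoc, ← Category.assoc _ c, hloc i]
    exact congrArg (l.left ≫ ·) ((Over.w (f i)).trans (Over.w (pι u T i ▷ A)).symm)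
  exact ⟨Over.homMk c hcw, fun i => Over.OverMorphism.ext (hloc i), fun g hg =>
    hom_ext_pb hu T A fun i => (hg i).trans (Over.OverMorphism.ext (hloc i)).symm⟩

end GrothLib.FpqcRep
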