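import Groth.Agent.Lib.FpqcRep.Glue
import Groth.Agent.Lib.FpqcRep.Small
import Groth.Agent.Lib.TorsorDesc.Pseudo
import Groth.Prelude.Def_NonAbH2
import Groth.Prelude.Def_ChGrp

/-!
# Push forward of fpqc torsors along homomorphisms to affine group schemes
-/

set_option autoImplicit false

universe u

open CategoryTheory CategoryTheory.Limits MonoidalCategory CartesianMonoidalCategory MonObj GrpObj AlgebraicGeometry
open GrothLib.RepLocal

namespace GrothLib.FpqcRep

variable {X : Scheme.{u}} {J J' P : Over X} [GrpObj J] [GrpObj J'] (u : J ⟶ J') [IsMonHom u]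
  (a : AlgGrp.Action J P)

/-- Twisted points of `J'`: maps `f` with `f(t, j • p) = f(t, p) u(j)⁻¹`. -/
def IsTwisted {T : Over X} (f : T ⊗ P ⟶ J') : Prop :=
  (T ◁ a.act) ≫ f = ((T ◁ snd J P) ≫ f) * (snd T (J ⊗ P) ≫ fst J P ≫ u)⁻¹

variable {u a}

omit [IsMonHom u] in
theorem IsTwisted.apply {T : Over X} {f : T ⊗ P ⟶ J'} (hf : IsTwisted u a f) {R : Over X} (t : R ⟶ T)
    (g : R ⟶ J) (p : R ⟶ P) : lift t (lift g p ≫ a.act) ≫ f = (lift t p ≫ f) * (g ≫ u)⁻¹ := by
  have h := congrArg (lift t (lift g p) ≫ ·) hf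
  simpa [MonObj.comp_mul, GrpObj.comp_inv] using h

omit [IsMonHom u] in
theorem IsTwisted.of_points {T : Over X} {f : T ⊗ P ⟶ J'}
    (h : ∀ (R : Over X) (t : R ⟶ T) (g : R ⟶ J) (p : R ⟶ P),
      lift t (lift g p ≫ a.act) ≫ f = (lift t p ≫ f) * (g ≫ u)⁻¹) : IsTwisted u a f := by
  apply AlgGrp.Action.hom_ext_lift₂
  intro R t gp
  obtain ⟨g, p, rfl⟩ : ∃ g p, gp = lift g p :=
    ⟨gp ≫ fst J P, gp ≫ snd J P, by rw [← comp_lift, lift_fst_snd, Category.comp_id]⟩
  simpa [MonObj.comp_mul, GrpObj.comp_inv] using h R t g p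

omit [IsMonHom u] in
theorem IsTwisted.comp {T T' : Over X} {f : T ⊗ P ⟶ J'} (hf : IsTwisted u a f) (k : T' ⟶ T) :
    IsTwisted u a ((k ▷ P) ≫ f) :=
  IsTwisted.of_points fun R t g p => by
    rw [lift_whiskerRight_assoc, lift_whiskerRight_assoc, hf.apply]

variable (u a) in
/-- The presheaf of twisted points. -/
noncomputable def twistPsh : Psh.{u} X where
  obj T := {f : T ⊗ P ⟶ J' // IsTwisted u a f}
  map k f := ⟨(k ▷ P) ≫ f.1, f.2.comp k⟩
  map_id T f := Subtype.ext (by show (𝟙 T ▷ P) ≫ f.1 = f.1; simp)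
  map_comp f g x := Subtype.ext (by
    show ((g ≫ f) ▷ P) ≫ x.1 = (g ▷ P) ≫ (f ▷ P) ≫ x.1
    rw [comp_whiskerRight, Category.assoc])

omit [IsMonHom u] in
theorem isGlued_twistPsh {κ : Type u} {U : κ → Scheme.{u}} {g : ∀ i, U i ⟶ X}
    (hg : Presieve.ofArrows U g ∈ Scheme.fpqcPrecoverage X) : IsGlued g (twistPsh u a) := by
  intro T f hf
  obtain ⟨F, hF, hu⟩ := existsUnique_hom hg T P (fun i => (f i).1)
    fun i j R x y e => congrArg Subtype.val (hf i j R x y e)
  have htw : IsTwisted u a F := by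
    refine hom_ext_pb hg T (J ⊗ P) fun i => ?_
    rw [MonObj.comp_mul, GrpObj.comp_inv, ← whisker_exchange_assoc, ← whisker_exchange_assoc, hF,
      ← Category.assoc _ (snd T (J ⊗ P)), whiskerRight_snd]
    exact (f i).2
  exact ⟨⟨F, htw⟩, fun i => Subtype.ext (hF i),
    fun y hy => Subtype.ext (hu y.1 fun i => congrArg Subtype.val (hy i))⟩

variable (hps : NonAbH1.IsPseudoTorsorSch a)

/-- The difference of two points of a pseudo-torsor. -/
noncomputable def diff : P ⊗ P ⟶ J :=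
  (TorsorDesc.exists_act_eq hps (fst P P) (snd P P)).choose

theorem diff_act {R : Over X} (p₁ p₂ : R ⟶ P) : lift (lift p₁ p₂ ≫ diff hps) p₂ ≫ a.act = p₁ := by
  have h := congrArg (lift p₁ p₂ ≫ ·) (TorsorDesc.exists_act_eq hps (fst P P) (snd P P)).choose_spec
  rw [← Category.assoc, comp_lift, lift_snd, lift_fst] at h
  exact h

theorem diff_eq {R : Over X} {g : R ⟶ J} {p₁ p₂ : R ⟶ P} (h : lift g p₂ ≫ a.act = p₁) :
    lift p₁ p₂ ≫ diff hps = g :=
  TorsorDesc.act_left_injective hps ((diff_act hps p₁ p₂).trans h.symm)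

theorem diff_self {R : Over X} (p : R ⟶ P) : lift p p ≫ diff hps = 1 :=
  diff_eq hps (a.lift_one_act p)

theorem diff_act_left {R : Over X} (g : R ⟶ J) (p₁ p₂ : R ⟶ P) :
    lift (lift g p₁ ≫ a.act) p₂ ≫ diff hps = g * (lift p₁ p₂ ≫ diff hps) :=
  diff_eq hps (by rw [AlgGrp.Action.lift_mul_act, diff_act])

theorem diff_act_right {R : Over X} (g : R ⟶ J) (p₁ p₂ : R ⟶ P) :
    (lift p₁ (lift g p₂ ≫ a.act) ≫ diff hps) * g = lift p₁ p₂ ≫ diff hps :=
  (diff_eq hps (by rw [AlgGrp.Action.lift_mul_act, diff_act])).symm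

include hps in
theorem IsTwisted.eq {T : Over X} {f : T ⊗ P ⟶ J'} (hf : IsTwisted u a f) {R : Over X} (t : R ⟶ T)
    (p₁ p₂ : R ⟶ P) : lift t p₁ ≫ f = (lift t p₂ ≫ f) * (lift p₁ p₂ ≫ diff hps ≫ u)⁻¹ := by
  conv_lhs => rw [← diff_act hps p₁ p₂]
  rw [hf.apply, Category.assoc]

section Rep

variable {κ : Type u} {U : κ → Scheme.{u}} (g : ∀ i, U i ⟶ X) (s : ∀ i, Over.mk (g i) ⟶ P)

/-- The projection of a local model to the member. -/
noncomputable def zW (i : κ) : pb g J' i ⟶ Over.mk (g i) :=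
  Over.homMk (pullback.fst (g i) J'.hom) rfl

/-- The universal twisted point on a local model. -/
noncomputable def nFun (u : J ⟶ J') (i : κ) : pb g J' i ⊗ P ⟶ J' :=
  (fst _ P ≫ pι g J' i) * (lift (snd _ P) (fst _ P ≫ zW g i ≫ s i) ≫ diff hps ≫ u)⁻¹

omit [IsMonHom u] in
theorem nFun_apply (i : κ) {R : Over X} (w : R ⟶ pb g J' i) (p : R ⟶ P) :
    lift w p ≫ nFun hps g s u i = (w ≫ pι g J' i) * (lift p (w ≫ zW g i ≫ s i) ≫ diff hps ≫ u)⁻¹ := by
  simp [nFun, MonObj.comp_mul, GrpObj.comp_inv, comp_lift_assoc]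

theorem nFun_twisted (i : κ) : IsTwisted u a (nFun hps g s u i) :=
  IsTwisted.of_points fun R w j p => by
    rw [nFun_apply, nFun_apply, ← Category.assoc _ (diff hps) u, diff_act_left, MonObj.mul_comp,
      _root_.mul_inv_rev, Category.assoc, _root_.mul_assoc]

theorem existsUnique_twist (i : κ) (T : Over X) (z : T.left ⟶ U i) (hz : z ≫ g i = T.hom)
    (f : (twistPsh u a).obj T) :
    ∃! x : T ⟶ pb g J' i, x.left ≫ pullback.fst (g i) J'.hom = z ∧
      (twistPsh u a).map x ⟨nFun hps g s u i, nFun_twisted hps g s i⟩ = f := by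
  let zT : T ⟶ Over.mk (g i) := Over.homMk z hz
  let h : T ⟶ J' := lift (𝟙 T) (zT ≫ s i) ≫ f.1
  let x : T ⟶ pb g J' i := Over.homMk (pullback.lift z h.left (hz.trans (Over.w h).symm)) (by
    show pullback.lift z _ _ ≫ pullback.fst _ _ ≫ g i = T.hom
    rw [pullback.lift_fst_assoc, hz])
  have hx₁ : x ≫ zW g i = zT := Over.OverMorphism.ext (pullback.lift_fst _ _ _)
  have hx₂ : x ≫ pι g J' i = h := Over.OverMorphism.ext (pullback.lift_snd _ _ _)
  refine ⟨x, ⟨pullback.lift_fst _ _ _, Subtype.ext ?_⟩, fun y hy => ?_⟩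
  · show (x ▷ P) ≫ nFun hps g s u i = f.1
    apply AlgGrp.Action.hom_ext_lift₂
    intro R t p
    rw [lift_whiskerRight_assoc, nFun_apply, f.2.eq hps t p (t ≫ zT ≫ s i), Category.assoc t x, hx₂,
      Category.assoc t x, ← Category.assoc x (zW g i), hx₁]
    simp [h, comp_lift_assoc]
  · obtain ⟨hy₁, hy₂⟩ := hy
    have e₁ : y ≫ zW g i = zT := Over.OverMorphism.ext hy₁
    have e₂ : y ≫ pι g J' i = h := by
      have := congrArg (fun F => lift (𝟙 T) (zT ≫ s i) ≫ Subtype.val F) hy₂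
      change lift (𝟙 T) (zT ≫ s i) ≫ (y ▷ P) ≫ nFun hps g s u i = h at this
      rw [lift_whiskerRight_assoc, Category.id_comp, nFun_apply, ← Category.assoc y (zW g i), e₁,
        ← Category.assoc _ (diff hps) u, diff_self, MonObj.one_comp, inv_one, _root_.mul_one] at this
      exact this
    apply Over.OverMorphism.ext
    refine pullback.hom_ext ?_ ?_
    · exact hy₁.trans (pullback.lift_fst _ _ _).symm
    · exact (congrArg CommaMorphism.left e₂).trans (pullback.lift_snd _ _ _).symm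

end Rep

variable (u a) in
/-- The twisted points are representable. -/
theorem exists_twist (ha : NonAbH1.IsTorsorFor Scheme.fpqcPrecoverage a) [IsAffineHom J'.hom] :
    ∃ (M : Over X) (m : (twistPsh u a).obj M),
      ∀ (T : Over X) (f : (twistPsh u a).obj T), ∃! x : T ⟶ M, (twistPsh u a).map x m = f := by
  obtain ⟨R, hR, hsec⟩ := ha.2
  obtain ⟨κ, U, g, hg, href⟩ := exists_small_refinement hR
  have hs : ∀ i, ∃ s : U i ⟶ P.left, s ≫ P.hom = g i := fun i => by
    obtain ⟨Z, f, k, hf, hk⟩ := href i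
    obtain ⟨s, hs⟩ := hsec f hf
    exact ⟨k ≫ s, by rw [Category.assoc, hs, hk]⟩
  choose s hs using hs
  let L : LocalRep g (twistPsh u a) :=
    { W := pb g J'
      q := fun i => pullback.fst (g i) J'.hom
      hq := fun i => rfl
      n := fun i => ⟨nFun ha.1 g (fun i => Over.homMk (s i) (hs i)) u i, nFun_twisted ha.1 g _ i⟩
      existsUnique := existsUnique_twist ha.1 g _ }
  exact L.exists_representing hg (isGlued_twistPsh hg) fun i =>
    MorphismProperty.pullback_fst (P := @IsAffineHom) _ _ ‹_›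

variable (u a) in
/-- The push forward of a torsor along a homomorphism to an affine group scheme. -/
theorem exists_pushforward (ha : NonAbH1.IsTorsorFor Scheme.fpqcPrecoverage a) [IsAffineHom J'.hom] :
    ∃ (M : Over X) (b : AlgGrp.Action J' M), NonAbH1.IsTorsorFor Scheme.fpqcPrecoverage b ∧
      NonAbH1.IsPushforwardAlongSch u a b := by
  obtain ⟨M, m, hm⟩ := exists_twist u a ha
  choose cls hcls hcu using hm
  have hev : ∀ {T : Over X} (x y : T ⟶ M), (x ▷ P) ≫ m.1 = (y ▷ P) ≫ m.1 → x = y := fun {T} x y h =>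
    (hcu T _ x rfl).trans (hcu T ((twistPsh u a).map x m) y (Subtype.ext (show (y ▷ P) ≫ m.1 = (x ▷ P) ≫ m.1 from h.symm))).symm
  have hclsv : ∀ {T : Over X} (f : (twistPsh u a).obj T), (cls T f ▷ P) ≫ m.1 = f.1 := fun {T} f =>
    congrArg Subtype.val (hcls T f)
  let Φ : (J' ⊗ M) ⊗ P ⟶ J' := (fst _ P ≫ fst J' M) * ((snd J' M ▷ P) ≫ m.1)
  have hΦ : IsTwisted u a Φ := IsTwisted.of_points fun R t g p => by
    simp only [Φ, MonObj.comp_mul, lift_fst_assoc, lift_whiskerRight_assoc, m.2.apply, _root_.mul_assoc]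
  let α : J' ⊗ M ⟶ M := cls _ ⟨Φ, hΦ⟩
  have hα : ∀ {T : Over X} (h : T ⟶ J') (x : T ⟶ M),
      ((lift h x ≫ α) ▷ P) ≫ m.1 = (fst T P ≫ h) * ((x ▷ P) ≫ m.1) := by
    intro T h x
    rw [comp_whiskerRight, Category.assoc, hclsv]
    show (lift h x ▷ P) ≫ ((fst _ P ≫ fst J' M) * ((snd J' M ▷ P) ≫ m.1)) = _
    rw [MonObj.comp_mul, ← comp_whiskerRight_assoc, lift_snd, whiskerRight_fst_assoc, lift_fst]
  let b : AlgGrp.Action J' M :=
    { act := α
      one_act := by
        refine AlgGrp.Action.hom_ext_lift₂ fun T e x => hev _ _ ?_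
        rw [lift_whiskerRight_assoc, toUnit_unique e (toUnit T), ← Hom.one_def, hα, MonObj.comp_one,
          _root_.one_mul, leftUnitor_hom, lift_snd]
      mul_act := by
        refine AlgGrp.Action.hom_ext_lift₃ fun T h h' x => hev _ _ ?_
        rw [lift_whiskerRight_assoc, ← Hom.mul_def, hα, lift_lift_associator_hom_assoc, lift_whiskerLeft_assoc,
          hα, hα, MonObj.comp_mul, _root_.mul_assoc] }
  have hq : IsTwisted u a (lift (snd P P) (fst P P) ≫ diff ha.1 ≫ u)⁻¹ := IsTwisted.of_points fun R t g p => by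
    simp only [GrpObj.comp_inv, comp_lift_assoc, lift_snd, lift_fst]
    rw [← Category.assoc _ (diff ha.1) u, diff_act_left, MonObj.mul_comp, _root_.mul_inv_rev, Category.assoc]
  let q : P ⟶ M := cls P ⟨_, hq⟩
  refine ⟨M, b, ⟨TorsorDesc.isPseudoTorsorSch_of_points (fun T x₁ x₂ => ?_) (fun T g₁ g₂ x h => ?_), ?_⟩, q, ?_⟩
  · haveI : EffectiveEpi (fst T P).left := TorsorDesc.effectiveEpi_of_localSections _
      (TorsorDesc.isLocallyTrivialFor_of_isPullback _ (IsPullback.of_hasPullback T.hom P.hom).flip ha.2)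
    obtain ⟨h, hh, -⟩ := TorsorDesc.existsUnique_desc (fst T P) (((x₁ ▷ P) ≫ m.1) * ((x₂ ▷ P) ≫ m.1)⁻¹)
      fun R c d e => by
        have hc : c = lift (c ≫ fst T P) (c ≫ snd T P) := by rw [← comp_lift, lift_fst_snd, Category.comp_id]
        have hd : d = lift (c ≫ fst T P) (d ≫ snd T P) := by rw [e, ← comp_lift, lift_fst_snd, Category.comp_id]
        rw [hc, hd]
        simp only [MonObj.comp_mul, GrpObj.comp_inv, lift_whiskerRight_assoc]
        rw [m.2.eq ha.1 _ (c ≫ snd T P) (d ≫ snd T P), m.2.eq ha.1 _ (c ≫ snd T P) (d ≫ snd T P)]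
        group
    refine ⟨h, hev _ _ ?_⟩
    show ((lift h x₂ ≫ α) ▷ P) ≫ m.1 = _
    rw [hα, hh, inv_mul_cancel_right]
  · haveI : EffectiveEpi (fst T P).left := TorsorDesc.effectiveEpi_of_localSections _
      (TorsorDesc.isLocallyTrivialFor_of_isPullback _ (IsPullback.of_hasPullback T.hom P.hom).flip ha.2)
    have e := congrArg (fun y => (y ▷ P) ≫ m.1) h
    change ((lift g₁ x ≫ α) ▷ P) ≫ m.1 = ((lift g₂ x ≫ α) ▷ P) ≫ m.1 at e
    rw [hα, hα] at e
    exact TorsorDesc.cancel_of_effectiveEpi (fst T P) (mul_right_cancel e)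
  · obtain ⟨R, hR, hsec⟩ := ha.2
    refine ⟨R, hR, fun S' f hf => ?_⟩
    obtain ⟨s, hs⟩ := hsec f hf
    exact ⟨s ≫ q.left, by rw [Category.assoc, Over.w q, hs]⟩
  · apply hev
    show ((a.act ≫ q) ▷ P) ≫ m.1 = ((lift (fst J P ≫ u) (snd J P ≫ q) ≫ α) ▷ P) ≫ m.1
    rw [hα, comp_whiskerRight, comp_whiskerRight, Category.assoc, Category.assoc, hclsv]
    apply AlgGrp.Action.hom_ext_lift₂
    intro R gp p'
    obtain ⟨g, p, rfl⟩ : ∃ g p, gp = lift g p :=
      ⟨gp ≫ fst J P, gp ≫ snd J P, by rw [← comp_lift, lift_fst_snd, Category.comp_id]⟩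
    simp only [MonObj.comp_mul, GrpObj.comp_inv, lift_whiskerRight_assoc, lift_fst_assoc, lift_snd, lift_fst,
      comp_lift_assoc]
    simp only [← Category.assoc _ (diff _) u]
    rw [← diff_act_right ha.1 g p' p]
    simp only [MonObj.mul_comp, _root_.mul_inv_rev, Category.assoc, mul_inv_cancel_left, ← lift_fst_snd]

end GrothLib.FpqcRep
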